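import Groth.Agent.Lib.NormFib.KrullAkizuki
import Mathlib.RingTheory.Valuation.LocalSubring
import Mathlib.RingTheory.DedekindDomain.Basic
import Mathlib.RingTheory.DedekindDomain.Dvr
import Mathlib.RingTheory.KrullDimension.Field
import Mathlib.RingTheory.KrullDimension.Zero

/-! # Valuation rings over a one-dimensional local domain and elements with poles at all of them -/

set_option linter.style.haveILetI false
universe u

namespace GrothLib.GenPole4

section Combine

variable {K : Type u} [Field K]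

theorem exists_notMem (A : Subring K) (F : Set (ValuationSubring K)) (hF : F.Finite)
    (h : ∀ V ∈ F, ∃ a ∈ A, a ∉ V) : ∃ a ∈ A, ∀ V ∈ F, a ∉ V := by
  classical
  induction F, hF using Set.Finite.induction_on with
  | empty => exact ⟨0, A.zero_mem, fun V hV => absurd hV (Set.notMem_empty V)⟩
  | @insert W F hW hF ih =>
    obtain ⟨f, hfA, hf⟩ := ih fun V hV => h V (Set.mem_insert_of_mem _ hV)
    by_cases hfW : f ∈ W
    swap
    · exact ⟨f, hfA, fun V hV => hV.elim (fun e => e ▸ hfW) (hf V)⟩
    obtain ⟨g, hgA, hg⟩ := h W (Set.mem_insert _ _)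
    have hbad : {n : ℕ | ∃ V ∈ F, V.valuation (f ^ n) = V.valuation g}.Finite := by
      have : {n : ℕ | ∃ V ∈ F, V.valuation (f ^ n) = V.valuation g} ⊆
          ⋃ V ∈ F, {n : ℕ | V.valuation (f ^ n) = V.valuation g} := by
        rintro n ⟨V, hV, hn⟩
        exact Set.mem_biUnion hV hn
      refine (hF.biUnion fun V hV => Set.Subsingleton.finite ?_).subset this
      intro a ha b hb
      have h1 : 1 < V.valuation f := not_le.1 fun hle => hf V hV ((V.valuation_le_one_iff f).1 hle)
      rw [Set.mem_setOf_eq, map_pow] at ha hb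
      exact (pow_right_strictMono₀ h1).injective (ha.trans hb.symm)
    obtain ⟨n, hn0, hn⟩ : ∃ n : ℕ, 0 < n ∧ ∀ V ∈ F, V.valuation (f ^ n) ≠ V.valuation g := by
      obtain ⟨n, hn⟩ := Set.Finite.exists_notMem (hbad.insert 0)
      simp only [Set.mem_insert_iff, Set.mem_setOf_eq, not_or, not_exists, not_and] at hn
      exact ⟨n, Nat.pos_of_ne_zero hn.1, hn.2⟩
    refine ⟨f ^ n + g, A.add_mem (pow_mem hfA n) hgA, fun V hV hmem => ?_⟩
    have hle := (V.valuation_le_one_iff _).2 hmem
    rcases hV with rfl | hV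
    · refine hg ((add_mem_cancel_left ?_).1 hmem)
      exact pow_mem hfW n
    · rw [V.valuation.map_add_of_distinct_val (hn V hV)] at hle
      have h1 : 1 < V.valuation f := not_le.1 fun hle => hf V hV ((V.valuation_le_one_iff f).1 hle)
      have h2 : 1 < V.valuation (f ^ n) := by
        rw [map_pow]; exact one_lt_pow₀ h1 hn0.ne'
      exact not_le.2 h2 ((le_max_left _ _).trans hle)

theorem notMem_pow {V : ValuationSubring K} {f : K} (hf : f ∉ V) {n : ℕ} (hn : n ≠ 0) : f ^ n ∉ V := by
  intro h
  rw [← V.valuation_le_one_iff, map_pow, pow_le_one_iff_of_nonneg zero_le hn, V.valuation_le_one_iff] at h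
  exact hf h

end Combine

section Dom

variable (R : Type u) [CommRing R] [IsDomain R] [IsNoetherianRing R] [IsLocalRing R]
  (K : Type u) [Field K] [Algebra R K] [IsFractionRing R K]

/-- The valuation subrings dominating a local ring. -/
def doms : Set (ValuationSubring K) :=
  {V | (algebraMap R K).range ≤ V.toSubring ∧
    ∀ r ∈ IsLocalRing.maximalIdeal R, algebraMap R K r ∈ V.nonunits}

theorem finite_doms (hd : ringKrullDim R = 1) : (doms R K).Finite := by
  classical
  haveI : Ring.KrullDimLE 1 R := Ring.krullDimLE_iff.2 hd.le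
  haveI : Ring.DimensionLEOne R :=
    ⟨fun {P} h hP => Ring.krullDimLE_one_iff_of_noZeroDivisors.1 inferInstance P h hP⟩
  have hm : IsLocalRing.maximalIdeal R ≠ ⊥ := by
    intro h
    have : IsField R := IsLocalRing.isField_iff_maximalIdeal_eq.2 h
    rw [ringKrullDim_eq_zero_of_isField this] at hd
    exact zero_ne_one hd
  let B := integralClosure R K
  have hB : Function.Injective (algebraMap B K) := Subtype.val_injective
  haveI : IsNoetherianRing B := NormFib.isNoetherianRing_of_injective R hB
  haveI : Algebra.IsAlgebraic R K :=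
    (IsFractionRing.comap_isAlgebraic_iff (A := R) (K := K) (C := K)).2 inferInstance
  haveI : IsFractionRing B K := integralClosure.isFractionRing_of_algebraic
    (fun x hx => (map_eq_zero_iff _ (IsFractionRing.injective R K)).1 hx)
  haveI : IsIntegrallyClosed B := (isIntegrallyClosed_iff K).2 fun {x} hx =>
    ⟨⟨x, isIntegral_trans x hx⟩, rfl⟩
  haveI : Ring.DimensionLEOne B := ⟨fun {P} hP hPp => by
    haveI := hPp
    obtain ⟨a, ha, haP⟩ := NormFib.exists_mem_map (R := R) hB hP
    have h0 : P.comap (algebraMap R B) ≠ ⊥ := fun h => ha (by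
      have : a ∈ P.comap (algebraMap R B) := haP
      rwa [h, Ideal.mem_bot] at this)
    haveI := Ideal.IsPrime.comap (algebraMap R B) (K := P)
    haveI : (P.comap (algebraMap R B)).IsMaximal := Ring.DimensionLEOne.maximalOfPrime h0 inferInstance
    exact Ideal.isMaximal_of_isIntegral_of_isMaximal_comap (R := R) P ‹_›⟩
  haveI : IsDedekindDomain B := {}
  have hle : ∀ V ∈ doms R K, ∀ b : B, (b : K) ∈ V := fun V hV b => by
    let ι : R →+* V := (algebraMap R K).codRestrict V.toSubring fun r => hV.1 ⟨r, rfl⟩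
    obtain ⟨p, hp, hpb⟩ := b.2
    have hint : IsIntegral V (b : K) := ⟨p.map ι, hp.map _, by rw [Polynomial.eval₂_map]; exact hpb⟩
    obtain ⟨v, hv⟩ := IsIntegrallyClosed.isIntegral_iff.1 hint
    rw [← hv]
    exact v.2
  let ctr : doms R K → Ideal B := fun V =>
    (IsLocalRing.maximalIdeal V.1).comap ((algebraMap B K).codRestrict V.1.toSubring (hle V.1 V.2))
  have hct : ∀ (V : doms R K) (c : B), c ∈ ctr V ↔ (c : K) ∈ V.1.nonunits := fun V c => by
    show (⟨(c : K), hle V.1 V.2 c⟩ : V.1) ∈ IsLocalRing.maximalIdeal V.1 ↔ _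
    refine Iff.trans ?_ ValuationSubring.mem_nonunits_iff_exists_mem_maximalIdeal.symm
    exact ⟨fun h => ⟨_, h⟩, fun ⟨_, h⟩ => h⟩
  have hover : ∀ V, IsLocalRing.maximalIdeal R ≤ (ctr V).comap (algebraMap R B) := fun V r hr =>
    (hct V _).2 (V.2.2 r hr)
  have hP0 : ∀ V, ctr V ≠ ⊥ := fun V h => by
    obtain ⟨t, ht, ht0⟩ := Submodule.exists_mem_ne_zero_of_ne_bot hm
    have h1 := hover V ht
    rw [Ideal.mem_comap, h, Ideal.mem_bot] at h1
    exact ht0 (IsFractionRing.injective R K ((congrArg Subtype.val h1).trans (map_zero _).symm))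
  haveI hPp : ∀ V, (ctr V).IsPrime := fun V => inferInstanceAs ((Ideal.comap _ _).IsPrime)
  have key : ∀ (V : doms R K) (z : K), z ∈ V.1 ↔ ∃ a s : B, s ∉ ctr V ∧ z * s = a := by
    intro V z
    constructor
    · intro hz
      obtain ⟨a₀, b₀, hb₀, rfl⟩ := IsFractionRing.div_surjective (A := B) z
      have hb0 : algebraMap B K b₀ ≠ 0 :=
        (map_ne_zero_iff _ hB).2 (nonZeroDivisors.ne_zero hb₀)
      let T := Localization.AtPrime (ctr V)
      haveI : IsDiscreteValuationRing T :=
        IsLocalization.AtPrime.isDiscreteValuationRing_of_dedekind_domain B (hP0 V) T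
      have hinjT : Function.Injective (algebraMap B T) :=
        IsLocalization.injective T (ctr V).primeCompl_le_nonZeroDivisors
      rcases ValuationRing.dvd_total (algebraMap B T b₀) (algebraMap B T a₀) with ⟨c, hc⟩ | ⟨c, hc⟩
      · obtain ⟨a, s, rfl⟩ := IsLocalization.exists_mk'_eq (ctr V).primeCompl c
        refine ⟨a, s, s.2, ?_⟩
        have h1 : a₀ * s = b₀ * a := hinjT (by
          rw [map_mul, map_mul, hc, mul_assoc, IsLocalization.mk'_spec])
        show _ / _ * algebraMap B K s = algebraMap B K a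
        rw [div_mul_eq_mul_div, div_eq_iff hb0, ← map_mul, ← map_mul, h1, mul_comm]
      · obtain ⟨a, s, rfl⟩ := IsLocalization.exists_mk'_eq (ctr V).primeCompl c
        have h1 : b₀ * s = a₀ * a := hinjT (by
          rw [map_mul, map_mul, hc, mul_assoc, IsLocalization.mk'_spec])
        by_cases ha : a ∈ ctr V
        · exfalso
          refine s.2 ?_
          rw [SetLike.mem_coe, hct]
          rw [hct] at ha
          have h2 : (algebraMap B K s) = algebraMap B K a₀ / algebraMap B K b₀ * algebraMap B K a := by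
            rw [div_mul_eq_mul_div, ← map_mul, ← h1, map_mul, mul_div_cancel_left₀ _ hb0]
          show algebraMap B K s ∈ _
          rw [h2]
          rw [ValuationSubring.mem_nonunits_iff_exists_mem_maximalIdeal] at ha ⊢
          obtain ⟨_, ha⟩ := ha
          exact ⟨_, Ideal.mul_mem_left _ (⟨_, hz⟩ : V.1) ha⟩
        · refine ⟨s, a, ha, ?_⟩
          show _ / _ * algebraMap B K a = algebraMap B K s
          rw [div_mul_eq_mul_div, div_eq_iff hb0, ← map_mul, ← map_mul, ← h1, mul_comm]
    · rintro ⟨a, s, hs, h⟩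
      have hu : IsUnit (⟨(s : K), hle V.1 V.2 s⟩ : V.1) := IsLocalRing.notMem_maximalIdeal.1 hs
      obtain ⟨w, hw⟩ := isUnit_iff_exists_inv.1 hu
      have hw' : (s : K) * (w : K) = 1 := congrArg Subtype.val hw
      have : z = (a : K) * (w : K) := by rw [← h, mul_assoc, hw', mul_one]
      rw [this]
      exact V.1.mul_mem _ _ (hle V.1 V.2 a) w.2
  have hinj : Function.Injective ctr := fun V W h =>
    Subtype.ext (SetLike.ext fun z => by rw [key, key, h])
  have hfin := (NormFib.finite_primes_over (R := R) hB _ hm).1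
  haveI := hfin.to_subtype
  exact Set.finite_coe_iff.1 (Finite.of_injective
    (fun V => (⟨ctr V, hPp V, hover V⟩ : {P : Ideal B | P.IsPrime ∧ IsLocalRing.maximalIdeal R ≤ P.comap (algebraMap R B)}))
    (fun V W h => hinj (congrArg Subtype.val h)))

/-- An element small at all dominating valuations has a power in the maximal ideal. -/
theorem exists_pow_mem (hd : ringKrullDim R = 1) (t : K) (ht : ∀ V ∈ doms R K, t ∈ V.nonunits) :
    ∃ N : ℕ, 0 < N ∧ ∀ n, N ≤ n → ∃ r ∈ IsLocalRing.maximalIdeal R, algebraMap R K r = t ^ n := by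
  classical
  haveI : Ring.KrullDimLE 1 R := Ring.krullDimLE_iff.2 hd.le
  haveI : Ring.DimensionLEOne R :=
    ⟨fun {P} h hP => Ring.krullDimLE_one_iff_of_noZeroDivisors.1 inferInstance P h hP⟩
  -- every valuation ring containing `R` is dominating or trivial
  have hsplit : ∀ V : ValuationSubring K, (algebraMap R K).range ≤ V.toSubring →
      V ∈ doms R K ∨ t ∈ V := by
    intro V hV
    let ι : R →+* V := (algebraMap R K).codRestrict V.toSubring fun r => hV ⟨r, rfl⟩
    by_cases h0 : (IsLocalRing.maximalIdeal V).comap ι = ⊥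
    · right
      obtain ⟨a, b, hb, rfl⟩ := IsFractionRing.div_surjective (A := R) t
      have hu : IsUnit (ι b) := IsLocalRing.notMem_maximalIdeal.1 fun h => nonZeroDivisors.ne_zero hb (by
        have h' : b ∈ (IsLocalRing.maximalIdeal V).comap ι := h
        rwa [h0, Ideal.mem_bot] at h')
      obtain ⟨w, hw⟩ := isUnit_iff_exists_inv.1 hu
      have hw' : algebraMap R K b * (w : K) = 1 := congrArg Subtype.val hw
      rw [div_eq_mul_inv, inv_eq_of_mul_eq_one_right hw']
      exact V.mul_mem _ _ (hV ⟨a, rfl⟩) w.2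
    · left
      refine ⟨hV, fun r hr => ?_⟩
      have : (IsLocalRing.maximalIdeal V).comap ι = IsLocalRing.maximalIdeal R :=
        IsLocalRing.eq_maximalIdeal (Ring.DimensionLEOne.maximalOfPrime h0 inferInstance)
      rw [← this] at hr
      exact ValuationSubring.mem_nonunits_iff_exists_mem_maximalIdeal.2 ⟨_, hr⟩
  have hint : IsIntegral R t := by
    by_contra hni
    let A : Subring K := (integralClosure R K).toSubring
    haveI : IsIntegrallyClosedIn A K := Subring.isIntegrallyClosedIn_iff.2 fun {x} hx => by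
      have : IsIntegral (integralClosure R K) x := hx
      exact isIntegral_trans (R := R) x this
    obtain ⟨V, hAV, htV⟩ := Subring.exists_le_valuationSubring_of_isIntegrallyClosedIn (R := A) (x := t) hni
    rcases hsplit V (fun x ⟨r, hr⟩ => hAV (hr ▸ (integralClosure R K).algebraMap_mem r)) with h | h
    · exact htV (V.nonunits_le (ht V h))
    · exact htV h
  let C := Algebra.adjoin R {t}
  haveI : Module.Finite R C := Module.Finite.iff_fg.2 hint.fg_adjoin_singleton
  let t' : C := ⟨t, Algebra.subset_adjoin rfl⟩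
  have hrad : ∀ P : Ideal C, P.IsMaximal → t' ∈ P := by
    intro P hP
    by_contra hnot
    obtain ⟨c, i, hi, hci⟩ := hP.exists_inv hnot
    obtain ⟨V, hCV, hPV⟩ := Ideal.image_subset_nonunits_valuationSubring (A := C.toSubring) P hP.ne_top
    have hR : (algebraMap R K).range ≤ V.toSubring := fun x ⟨r, hr⟩ => hCV (hr ▸ C.algebraMap_mem r)
    haveI : P.IsPrime := hP.isPrime
    haveI : (P.comap (algebraMap R C)).IsMaximal := Ideal.isMaximal_comap_of_isIntegral_of_isMaximal P
    have hdom : V ∈ doms R K := ⟨hR, fun r hr => hPV ⟨algebraMap R C r, by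
      rwa [← IsLocalRing.eq_maximalIdeal ‹(P.comap (algebraMap R C)).IsMaximal›] at hr, rfl⟩⟩
    have h1 : (1 : K) = (c : K) * t + (i : K) := (congrArg Subtype.val hci).symm
    have hct : (c : K) * t ∈ V.nonunits := by
      have hct0 := ht V hdom
      rw [ValuationSubring.mem_nonunits_iff, map_mul] at *
      exact mul_lt_one_of_nonneg_of_lt_one_right ((V.valuation_le_one_iff _).2 (hCV c.2)) zero_le hct0
    have hi' : (i : K) ∈ V.nonunits := hPV ⟨i, hi, rfl⟩
    rw [ValuationSubring.mem_nonunits_iff] at hct hi'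
    have := (V.valuation.map_add _ _).trans_lt (max_lt hct hi')
    rw [← h1, map_one] at this
    exact lt_irrefl _ this
  let mC : Ideal C := (IsLocalRing.maximalIdeal R).map (algebraMap R C)
  obtain ⟨N, hN⟩ : ∃ N, t' ^ N ∈ mC := by
    have : t' ∈ mC.jacobson := Ideal.mem_sInf.2 fun {P} hP => hrad P hP.2
    haveI : IsNoetherianRing C := isNoetherianRing_of_fg
      (S := C) (Subalgebra.fg_adjoin_finset {t} |> fun h => by simpa using h)
    haveI : IsArtinianRing (C ⧸ mC) := by
      have hle : IsLocalRing.maximalIdeal R ≤ RingHom.ker (algebraMap R (C ⧸ mC)) := fun r hr =>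
        Ideal.Quotient.eq_zero_iff_mem.2 (Ideal.mem_map_of_mem _ hr)
      let φ : IsLocalRing.ResidueField R →+* C ⧸ mC := Ideal.Quotient.lift _ (algebraMap R (C ⧸ mC)) hle
      letI := φ.toAlgebra
      haveI : IsScalarTower R (IsLocalRing.ResidueField R) (C ⧸ mC) :=
        IsScalarTower.of_algebraMap_eq fun r => rfl
      haveI : Module.Finite (IsLocalRing.ResidueField R) (C ⧸ mC) :=
        Module.Finite.of_restrictScalars_finite R _ _
      exact IsArtinianRing.of_finite (IsLocalRing.ResidueField R) _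
    have h2 : Ideal.Quotient.mk mC t' ∈ Ring.jacobson (C ⧸ mC) := by
      rw [← Ideal.jacobson_bot, Ideal.mem_jacobson_bot] 
      intro y
      obtain ⟨y, rfl⟩ := Ideal.Quotient.mk_surjective y
      by_contra hu
      obtain ⟨Q, hQ, hmem⟩ := exists_max_ideal_of_mem_nonunits hu
      haveI := hQ
      have hP : (Q.comap (Ideal.Quotient.mk mC)).IsMaximal :=
        Ideal.comap_isMaximal_of_surjective _ Ideal.Quotient.mk_surjective
      have h3 : Ideal.Quotient.mk mC t' ∈ Q := hrad _ hP
      exact hQ.ne_top ((Ideal.eq_top_iff_one _).2 (by simpa using Q.sub_mem hmem (Q.mul_mem_right (Ideal.Quotient.mk mC y) h3)))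
    obtain ⟨N, hN⟩ := IsArtinianRing.isNilpotent_jacobson_bot (R := C ⧸ mC)
    refine ⟨N, Ideal.Quotient.eq_zero_iff_mem.1 ?_⟩
    rw [← Ideal.jacobson_bot] at h2
    have := Ideal.pow_mem_pow h2 N
    rw [hN] at this
    simpa using this
  -- a denominator for `C`
  obtain ⟨d, hd0, hdC⟩ : ∃ d : R, d ≠ 0 ∧ ∀ c : C, ∃ r : R, algebraMap R K r = algebraMap R K d * c := by
    obtain ⟨s, hs⟩ := (Module.Finite.fg_top (R := R) (M := C))
    obtain ⟨⟨d, hd⟩, hds⟩ := IsLocalization.exist_integer_multiples (nonZeroDivisors R) s (fun c : C => (c : K))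
    refine ⟨d, nonZeroDivisors.ne_zero hd, fun c => ?_⟩
    have hc : c ∈ Submodule.span R (s : Set C) := hs ▸ Submodule.mem_top
    induction hc using Submodule.span_induction with
    | mem x hx => obtain ⟨r, hr⟩ := hds x hx; exact ⟨r, hr.trans (Algebra.smul_def _ _)⟩
    | zero => exact ⟨0, by simp⟩
    | add x y _ _ hx hy =>
      obtain ⟨a, ha⟩ := hx; obtain ⟨b, hb⟩ := hy
      exact ⟨a + b, by rw [map_add, ha, hb]; push_cast; ring⟩
    | smul a x _ hx =>
      obtain ⟨b, hb⟩ := hx
      exact ⟨a * b, by rw [map_mul, hb, Algebra.smul_def]; push_cast; ring⟩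
  obtain ⟨M, hM⟩ : ∃ M, IsLocalRing.maximalIdeal R ^ M ≤ Ideal.span {d} * IsLocalRing.maximalIdeal R := by
    refine (Ideal.exists_pow_le_of_le_radical_of_fg ?_ (IsNoetherian.noetherian _))
    intro x hx
    rw [Ideal.radical_eq_sInf]
    refine Ideal.mem_sInf.2 fun {J} hJ => ?_
    obtain ⟨hJle, hJp⟩ := hJ
    haveI := hJp
    have hm0 : IsLocalRing.maximalIdeal R ≠ ⊥ := by
      intro h
      have : IsField R := IsLocalRing.isField_iff_maximalIdeal_eq.2 h
      rw [ringKrullDim_eq_zero_of_isField this] at hd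
      exact zero_ne_one hd
    have hJ0 : J ≠ ⊥ := by
      rintro rfl
      refine mul_ne_zero ?_ hm0 (le_bot_iff.1 hJle)
      exact fun h => hd0 (Ideal.span_singleton_eq_bot.1 h)
    rw [IsLocalRing.eq_maximalIdeal (Ring.DimensionLEOne.maximalOfPrime hJ0 hJp)]
    exact hx
  have hmap : ∀ z ∈ (Ideal.span {d} * IsLocalRing.maximalIdeal R).map (algebraMap R C), ∀ c : C,
      ∃ r ∈ IsLocalRing.maximalIdeal R, algebraMap R K r = (c : K) * (z : K) := by
    intro z hz
    induction hz using Submodule.span_induction with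
    | mem x hx =>
      obtain ⟨a, ha, rfl⟩ := hx
      obtain ⟨m, hm, rfl⟩ := Ideal.mem_span_singleton_mul.1 ha
      intro c
      obtain ⟨r, hr⟩ := hdC c
      refine ⟨m * r, Ideal.mul_mem_right _ _ hm, ?_⟩
      show _ = (c : K) * algebraMap R K (d * m)
      rw [map_mul, hr, map_mul]; ring
    | zero => exact fun c => ⟨0, Ideal.zero_mem _, by simp⟩
    | add x y _ _ hx hy =>
      intro c
      obtain ⟨a, ha, hxa⟩ := hx c; obtain ⟨b, hb, hyb⟩ := hy c
      exact ⟨a + b, Ideal.add_mem _ ha hb, by rw [map_add, hxa, hyb]; push_cast; ring⟩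
    | smul e x _ hx =>
      intro c
      obtain ⟨a, ha, hxa⟩ := hx (c * e)
      exact ⟨a, ha, by rw [hxa]; simp only [smul_eq_mul]; push_cast; ring⟩
  refine ⟨N * M + 1, Nat.succ_pos _, fun n hn => ?_⟩
  have hz : t' ^ n ∈ mC ^ M := Ideal.pow_mem_pow hN M |> fun h => by
    rw [← pow_mul] at h
    obtain ⟨e, rfl⟩ := Nat.exists_eq_add_of_le ((Nat.le_succ _).trans hn)
    rw [pow_add]
    exact Ideal.mul_mem_right _ _ h
  rw [← Ideal.map_pow] at hz
  obtain ⟨r, hr, he⟩ := hmap _ (Ideal.map_mono hM hz) 1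
  exact ⟨r, hr, he.trans (by simp [t'])⟩

end Dom

end GrothLib.GenPole4
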