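import Groth.Agent.Lib.GenPole4.Alg
import Groth.Agent.Lib.Ample.EquationCocycle
import Groth.Agent.Lib.Ample.Twisting
import Groth.Prelude.Def_Curv2
import Mathlib.AlgebraicGeometry.Morphisms.Separated
import Mathlib.AlgebraicGeometry.FunctionField

/-! # Affine opens with finite one-codimensional complement and globally generated invertible modules -/

universe u

set_option backward.isDefEq.respectTransparency false
set_option linter.all false

open CategoryTheory AlgebraicGeometry TopologicalSpace Opposite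
open GrothLib.Ample (res res_res res_self Equations Cocycle)

noncomputable section

namespace GrothLib.GenPole4

variable {X : Scheme.{u}} [IsIntegral X] {U : X.Opens} [Nonempty U]

theorem exists_pole [X.IsSeparated] (hU : IsAffineOpen U) {x : X} (hx : x ∉ U)
    [IsNoetherianRing (X.presheaf.stalk x)] (V : ValuationSubring X.functionField)
    (hV : V ∈ doms (X.presheaf.stalk x) X.functionField) :
    ∃ a : Γ(X, U), X.germToFunctionField U a ∉ V := by
  by_contra hcon
  push Not at hcon
  let ιU : Γ(X, U) ⟶ CommRingCat.of V :=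
    CommRingCat.ofHom ((X.germToFunctionField U).hom.codRestrict V.toSubring hcon)
  let ιx : X.presheaf.stalk x ⟶ CommRingCat.of V :=
    CommRingCat.ofHom ((algebraMap (X.presheaf.stalk x) X.functionField).codRestrict V.toSubring
      fun r => hV.1 ⟨r, rfl⟩)
  let inc : CommRingCat.of V ⟶ X.functionField := CommRingCat.ofHom V.subtype
  have hη : genericPoint X ∈ U :=
    ((genericPoint_spec X).mem_open_set_iff U.isOpen).mpr (by simpa using ‹Nonempty U›)
  haveI : IsDominant (Spec.map inc) := ⟨(PrimeSpectrum.denseRange_comap_iff_ker_le_nilRadical V.subtype).2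
    (by rw [(RingHom.injective_iff_ker_eq_bot _).1 Subtype.val_injective]; exact bot_le)⟩
  have heq : Spec.map ιU ≫ hU.fromSpec = Spec.map ιx ≫ X.fromSpecStalk x := by
    refine ext_of_isDominant (Spec.map inc) ?_
    rw [← Spec.map_comp_assoc, ← Spec.map_comp_assoc]
    have e1 : ιU ≫ inc = X.presheaf.germ U (genericPoint X) hη := rfl
    have e2 : ιx ≫ inc = X.presheaf.stalkSpecializes ((genericPoint_spec X).specializes trivial) := rfl
    rw [e1, e2, Scheme.SpecMap_stalkSpecializes_fromSpecStalk]
    exact hU.fromSpecStalk_eq_fromSpecStalk hη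
  let q : Spec (CommRingCat.of V) := IsLocalRing.closedPoint V
  have h1 : (Spec.map ιU ≫ hU.fromSpec) q ∈ U := by
    rw [Scheme.Hom.comp_apply]
    exact hU.range_fromSpec.le ⟨_, rfl⟩
  rw [heq, Scheme.Hom.comp_apply] at h1
  have h2 : (Spec.map ιx) q = IsLocalRing.closedPoint (X.presheaf.stalk x) := by
    refine PrimeSpectrum.ext ((IsLocalRing.maximalIdeal.isMaximal _).eq_of_le (Ideal.IsPrime.ne_top inferInstance) ?_).symm
    intro r hr
    show ιx.hom r ∈ IsLocalRing.maximalIdeal V
    obtain ⟨_, h⟩ := ValuationSubring.mem_nonunits_iff_exists_mem_maximalIdeal.1 (hV.2 r hr)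
    exact h
  rw [h2, Scheme.fromSpecStalk_closedPoint] at h1
  exact hx h1

omit [Nonempty U] in
theorem not_specializes {x y : X} (hne : (U : Set X).Nonempty) (hy : y ∉ U)
    (hd : ringKrullDim (X.presheaf.stalk x) = 1) (hyx : y ≠ x) : ¬ y ⤳ x := by
  intro h
  have hη : genericPoint X ⤳ y := (genericPoint_spec X).specializes trivial
  have hyη : y ≠ genericPoint X := fun e => hy (e ▸ ((genericPoint_spec X).mem_open_set_iff U.isOpen).2 (by simpa using hne))
  have hz : ∀ {w : X}, w ⤳ x → w ∈ Set.range (X.fromSpecStalk x) := fun hw => by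
    rw [Scheme.range_fromSpecStalk]; exact hw
  obtain ⟨p, hp⟩ := hz h
  obtain ⟨p₀, hp₀⟩ := hz ((genericPoint_spec X).specializes trivial)
  haveI : Ring.KrullDimLE 1 (X.presheaf.stalk x) := Ring.krullDimLE_iff.2 hd.le
  rcases eq_or_ne p.asIdeal ⊥ with e | e
  · refine hyη ?_
    rw [← hp, ← hp₀]
    have h0 : p₀.asIdeal = ⊥ := by
      have hle : (show PrimeSpectrum (X.presheaf.stalk x) from p) ≤ p₀ := by
        show p.asIdeal ≤ p₀.asIdeal
        rw [e]; exact bot_le
      have hle' := (PrimeSpectrum.le_iff_specializes (show PrimeSpectrum (X.presheaf.stalk x) from p) p₀).1 hle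
      have h1 : (X.fromSpecStalk x) p ⤳ (X.fromSpecStalk x) p₀ :=
        hle'.map (X.fromSpecStalk x).continuous
      rw [hp, hp₀] at h1
      exact absurd (hη.antisymm h1).eq.symm hyη
    exact congrArg _ (PrimeSpectrum.ext (e.trans h0.symm))
  · have hm := Ring.krullDimLE_one_iff_of_noZeroDivisors.1 inferInstance p.asIdeal e p.isPrime
    have : p = IsLocalRing.closedPoint (X.presheaf.stalk x) := PrimeSpectrum.ext (IsLocalRing.eq_maximalIdeal hm)
    rw [this, Scheme.fromSpecStalk_closedPoint] at hp
    exact hyx hp.symm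

theorem main [X.IsSeparated] (hU : IsAffineOpen U) (hne : (U : Set X).Nonempty)
    (hfin : ((U : Set X)ᶜ).Finite)
    (hloc : ∀ x : X, x ∉ U → IsNoetherianRing (X.presheaf.stalk x) ∧ ringKrullDim (X.presheaf.stalk x) = 1) :
    ∃ (L : X.Modules) (s : Coh.structureModule X ⟶ L), PicF.IsInvertible L ∧ Curv2.IsGloballyGenerated L ∧
      CohB1.genLocus L s = U := by
  classical
  let S : Set X := (U : Set X)ᶜ
  haveI hS : Finite S := hfin.to_subtype
  let 𝒱 : Set (ValuationSubring X.functionField) := ⋃ x : S, doms (X.presheaf.stalk x.1) X.functionField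
  have h𝒱 : 𝒱.Finite := Set.finite_iUnion fun x => by
    haveI := (hloc x.1 x.2).1
    exact finite_doms _ _ (hloc x.1 x.2).2
  obtain ⟨_, ⟨f, rfl⟩, hf⟩ := exists_notMem (X.germToFunctionField U).hom.range 𝒱 h𝒱 fun V hV => by
    obtain ⟨x, hx⟩ := Set.mem_iUnion.1 hV
    haveI := (hloc x.1 x.2).1
    obtain ⟨a, ha⟩ := exists_pole hU x.2 V hx
    exact ⟨_, ⟨a, rfl⟩, ha⟩
  let φ := (X.germToFunctionField U).hom f
  have hpow : ∀ x : S, ∃ N : ℕ, 0 < N ∧ ∀ n, N ≤ n → ∃ r ∈ IsLocalRing.maximalIdeal (X.presheaf.stalk x.1),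
      algebraMap _ X.functionField r = φ⁻¹ ^ n := fun x => by
    haveI := (hloc x.1 x.2).1
    refine exists_pow_mem _ _ (hloc x.1 x.2).2 _ fun V hV => ?_
    rw [ValuationSubring.mem_nonunits_iff_or, inv_inv]
    exact Or.inr (hf V (Set.mem_iUnion.2 ⟨x, hV⟩))
  choose N hN hr using hpow
  haveI := Fintype.ofFinite S
  let n : ℕ := Finset.univ.sup N
  choose r hrm hre using fun x => hr x n (Finset.le_sup (Finset.mem_univ x))
  have hgood : ∀ x : S, ∃ (D : X.Opens) (p : Γ(X, D)) (hxD : x.1 ∈ D), (∀ z ∈ D, z ∉ U → z = x.1) ∧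
      X.presheaf.germ D x.1 hxD p = r x := by
    intro x
    obtain ⟨W, hxW, p, hp⟩ := X.presheaf.exists_germ_eq (r x)
    let T : Set X := ⋃ y ∈ (S \ {x.1}), closure {y}
    have hT : IsClosed T := (hfin.subset Set.diff_subset).isClosed_biUnion fun y _ => isClosed_closure
    have hxT : x.1 ∉ T := by
      intro h
      obtain ⟨y, ⟨hyS, hyne⟩, hy⟩ := Set.mem_iUnion₂.1 h
      exact not_specializes hne hyS (hloc x.1 x.2).2 hyne (specializes_iff_mem_closure.2 hy)
    refine ⟨W ⊓ ⟨Tᶜ, hT.isOpen_compl⟩, res inf_le_left p, ⟨hxW, hxT⟩, fun z hz hzU => ?_,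
      (TopCat.Presheaf.germ_res_apply X.presheaf (homOfLE inf_le_left) x.1 ⟨hxW, hxT⟩ p).trans hp⟩
    by_contra hne'
    exact hz.2 (Set.mem_iUnion₂.2 ⟨z, ⟨hzU, hne'⟩, subset_closure rfl⟩)
  choose D p hxD hD hp using hgood
  -- the product of an equation and `f ^ n` is one
  have hone : ∀ (x : S) {W : X.Opens} (h : W ≤ D x) (hWU : W ≤ U), res hWU (f ^ n) * res h (p x) = 1 := by
    intro x W h hWU
    by_cases hW : (W : Set X).Nonempty
    · haveI : Nonempty W := hW.to_subtype
      haveI : Nonempty (D x) := ⟨⟨_, hxD x⟩⟩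
      apply X.germToFunctionField_injective W
      rw [map_mul, map_one]
      show X.presheaf.germ W _ _ (res hWU (f ^ n)) * X.presheaf.germ W _ _ (res h (p x)) = 1
      erw [TopCat.Presheaf.germ_res_apply, TopCat.Presheaf.germ_res_apply]
      have h1 : X.germToFunctionField (D x) (p x) = φ⁻¹ ^ n := by
        rw [← Scheme.algebraMap_germ_eq_germToFunctionField (X := X) (hxD x), hp, hre]
      show X.germToFunctionField U (f ^ n) * X.germToFunctionField (D x) (p x) = 1
      rw [map_pow, h1, ← mul_pow, mul_inv_cancel₀, one_pow]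
      intro h0
      haveI := (hloc x.1 x.2).1
      obtain ⟨V, hV⟩ : (doms (X.presheaf.stalk x.1) X.functionField).Nonempty := by
        by_contra hemp
        rw [Set.not_nonempty_iff_eq_empty] at hemp
        obtain ⟨M, -, hM⟩ := exists_pow_mem (X.presheaf.stalk x.1) X.functionField (hloc x.1 x.2).2 1
          (by rw [hemp]; exact fun V hV => absurd hV (Set.notMem_empty V))
        obtain ⟨a, ha, hae⟩ := hM M le_rfl
        rw [one_pow, ← map_one (algebraMap (X.presheaf.stalk x.1) X.functionField)] at hae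
        rw [IsFractionRing.injective (X.presheaf.stalk x.1) X.functionField hae] at ha
        exact IsLocalRing.notMem_maximalIdeal.2 isUnit_one ha
      exact hf V (Set.mem_iUnion.2 ⟨x, hV⟩) (by show φ ∈ V; rw [show φ = 0 from h0]; exact V.zero_mem)
    · haveI : Subsingleton Γ(X, W) := by
        have : W = ⊥ := Opens.ext (Set.not_nonempty_iff_eq_empty.1 hW)
        subst this
        exact CommRingCat.subsingleton_of_isTerminal X.sheaf.isTerminalOfEmpty
      exact Subsingleton.elim _ _
  have hpU : ∀ x : S, X.basicOpen (p x) = D x ⊓ U := by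
    intro x
    refine le_antisymm (fun z hz => ?_) (fun z hz => ?_)
    · refine ⟨X.basicOpen_le _ hz, by_contra fun hzU => ?_⟩
      have hzx := hD x z (X.basicOpen_le _ hz) hzU
      subst hzx
      rw [Scheme.mem_basicOpen _ _ _ (hxD x), hp] at hz
      exact (IsLocalRing.notMem_maximalIdeal.2 hz) (hrm x)
    · have hu : IsUnit (res (inf_le_left : D x ⊓ U ≤ D x) (p x)) :=
        IsUnit.of_mul_eq_one _ ((mul_comm _ _).trans (hone x inf_le_left inf_le_right))
      have h3 := Scheme.basicOpen_of_isUnit X hu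
      rw [Scheme.basicOpen_res] at h3
      exact (h3.ge hz).2
  let E : Equations X :=
    { ι := Option S
      D := fun i => i.elim U D
      f := fun i => match i with
        | none => 1
        | some x => p x
      V := U
      cover := by
        refine eq_top_iff.2 fun y _ => Opens.mem_iSup.2 ?_
        by_cases hy : y ∈ U
        · exact ⟨none, hy⟩
        · exact ⟨some ⟨y, hy⟩, hxD ⟨y, hy⟩⟩
      disjoint := fun i j hij z hz => by
        rcases i with _ | x <;> rcases j with _ | y
        · exact absurd rfl hij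
        · exact hz.1
        · exact hz.2
        · exact by_contra fun hzU => hij (congrArg some (Subtype.ext ((hD x z hz.1 hzU).symm.trans (hD y z hz.2 hzU))))
      basicOpen_eq := fun i => by
        rcases i with _ | x
        · show X.basicOpen (1 : Γ(X, U)) = U ⊓ U
          rw [Scheme.basicOpen_of_isUnit X isUnit_one, inf_idem]
        · exact hpU x }
  let a : ∀ i, Γ(X, E.D i) := fun i => match i with
    | none => f ^ n
    | some x => 1
  have ha : ∀ i {W : X.Opens} (h : W ≤ E.D i) (hWU : W ≤ U), res h (a i) = res hWU (f ^ n) * res h (E.f i) := by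
    intro i W h hWU
    rcases i with _ | x
    · show res hWU (f ^ n) = res hWU (f ^ n) * res hWU (1 : Γ(X, U))
      rw [map_one, mul_one]
    · exact (map_one _).trans (hone x h hWU).symm
  let σ : E.cocycle.sect 1 ⊤ := ⟨fun i => res inf_le_right (a i), fun i j W hi hj => by
    rw [pow_one, res_res, res_res]
    change res (hi.trans inf_le_right) (a i) =
      res (le_inf (hi.trans inf_le_right) (hj.trans inf_le_right)) (E.g i j) * res (hj.trans inf_le_right) (a j)
    by_cases hij : i = j
    · subst hij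
      have : res (le_inf (hi.trans inf_le_right) (hi.trans inf_le_right)) (E.g i i) = 1 := E.cocycle.self i W (hi.trans inf_le_right)
      rw [this, one_mul]
    · have hWU : W ≤ U := (le_inf (hi.trans inf_le_right) (hj.trans inf_le_right)).trans (E.disjoint i j hij)
      refine (ha i (hi.trans inf_le_right) hWU).trans ?_
      refine Eq.trans ?_ (congrArg (_ * ·) (ha j (hj.trans inf_le_right) hWU)).symm
      refine (congrArg (_ * ·) (E.res_g_mul i j (hi.trans inf_le_right) (hj.trans inf_le_right))).symm.trans ?_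
      exact mul_left_comm _ _ _⟩
  refine ⟨E.cocycle.twist 1, E.cocycle.hom E.section₁, E.cocycle.isInvertible_twist 1, ?_,
    (E.cocycle.genLocus_hom _).trans E.locus_section₁⟩
  refine E.cocycle.isGloballyGenerated_of_generated fun y => ?_
  by_cases hy : y ∈ U
  · exact ⟨E.section₁, E.locus_section₁.ge hy⟩
  · refine ⟨σ, Opens.mem_iSup.2 ⟨some ⟨y, hy⟩, ?_⟩⟩
    show y ∈ X.basicOpen (res inf_le_right (1 : Γ(X, D ⟨y, hy⟩)))
    rw [map_one, Scheme.basicOpen_of_isUnit X isUnit_one]
    exact ⟨trivial, hxD ⟨y, hy⟩⟩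

end GrothLib.GenPole4
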